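import Groth.Agent.Lib.RegExt.P1
import Mathlib.RingTheory.AlgebraicIndependent.Transcendental
import Groth.Agent.Lib.ProjSpace.Basic
import Groth.Agent.Lib.Curve17.FunctionField
import Groth.Agent.Lib.Curve17.SepGen
import Mathlib.FieldTheory.RatFunc.Luroth
import Mathlib.Algebra.MvPolynomial.Equiv

/-!
# The function field of the projective line, and curves dominated by it
-/

set_option autoImplicit false
set_option linter.style.haveILetI false

universe u

open CategoryTheory CategoryTheory.Limits AlgebraicGeometry

namespace Groth.Agent.RatCurve6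

variable (k : Type u) [Field k]

/-- The structure map of the projective line. -/
noncomputable abbrev pP1 : CohB1.ProjSpace 1 k ⟶ Spec (CommRingCat.of k) := CohB1.ProjSpace.toSpec 1 k

theorem baseStalk_Spec {R : CommRingCat.{u}} [IsDomain R] (φ : CommRingCat.of k ⟶ R) :
    Curve17.baseStalk (Spec.map φ) (genericPoint (Spec R)) =
      φ ≫ CommRingCat.ofHom (algebraMap R (Spec R).functionField) := by
  apply Spec.map_injective
  rw [Curve17.SpecMap_baseStalk, Spec.map_comp]
  congr 1
  exact Spec.fromSpecStalk_eq' _ _

/-- The function field of an integral scheme with an affine open chart. -/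
theorem nonempty_algEquiv_of_chart {X : Scheme.{u}} [IsIntegral X] (pX : X ⟶ Spec (CommRingCat.of k))
    (R : CommRingCat.{u}) [IsDomain R] [Algebra k R] (c : Spec R ⟶ X) [IsOpenImmersion c]
    (hw : c ≫ pX = Spec.map (CommRingCat.ofHom (algebraMap k R)))
    (K : Type u) [Field K] [Algebra R K] [Algebra k K] [IsScalarTower k R K] [IsFractionRing R K] :
    letI := Curve17.funAlg pX
    Nonempty (K ≃ₐ[k] X.functionField) := by
  letI := Curve17.funAlg pX
  have e := genericPoint_eq_of_isOpenImmersion c
  haveI : IsIso (Curve17.genMap c e) := by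
    haveI : IsIso (X.presheaf.stalkSpecializes (specializes_of_eq e)) :=
      ⟨X.presheaf.stalkSpecializes (specializes_of_eq e.symm), by simp, by simp⟩
    unfold Curve17.genMap; infer_instance
  let η := asIso (Curve17.genMap c e)
  have hbase := Curve17.genMap_baseStalk (Spec.map (CommRingCat.ofHom (algebraMap k R))) pX c hw e
  rw [baseStalk_Spec] at hbase
  letI : Algebra k (Spec R).functionField :=
    ((algebraMap R (Spec R).functionField).comp (algebraMap k R)).toAlgebra
  haveI : IsScalarTower k R (Spec R).functionField := IsScalarTower.of_algebraMap_eq fun _ => rfl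
  let e1 : K ≃ₐ[k] (Spec R).functionField := (FractionRing.algEquiv R K).symm.restrictScalars k |>.trans
    ((FractionRing.algEquiv R (Spec R).functionField).restrictScalars k)
  let e2 : X.functionField ≃ₐ[k] (Spec R).functionField :=
    AlgEquiv.ofRingEquiv (f := η.commRingCatIsoToRingEquiv) fun a => by
      exact congr($(hbase) a)
  exact ⟨e1.trans e2.symm⟩

/-- The function field of `P^1` is the field of rational functions. -/
theorem nonempty_algEquiv_ratFunc [IsIntegral (CohB1.ProjSpace 1 k)] :
    letI := Curve17.funAlg (pP1 k)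
    Nonempty (RatFunc k ≃ₐ[k] (CohB1.ProjSpace 1 k).functionField) := by
  letI : Unique {j : Fin (1 + 1) // j ≠ 0} := ⟨⟨⟨1, by decide⟩⟩, fun j => by
    obtain ⟨j, hj⟩ := j; fin_cases j
    · exact absurd rfl hj
    · rfl⟩
  let ψ := MvPolynomial.uniqueAlgEquiv k {j : Fin (1 + 1) // j ≠ 0}
  haveI : IsIso (CommRingCat.ofHom ψ.toRingEquiv.toRingHom) :=
    (ConcreteCategory.isIso_iff_bijective _).2 ψ.bijective
  refine nonempty_algEquiv_of_chart k (pP1 k) (CommRingCat.of (Polynomial k))
    (Spec.map (CommRingCat.ofHom ψ.toRingEquiv.toRingHom) ≫ ProjSpace.chart 1 k 0) ?_ (RatFunc k)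
  rw [Category.assoc, ProjSpace.chart_toSpec, ← Spec.map_comp]
  congr 1
  refine CommRingCat.hom_ext (RingHom.ext fun a => ?_)
  exact ψ.commutes a

variable {k}

/-- A curve dominated by `P^1` has the function field of `P^1`. -/
theorem nonempty_algEquiv_of_dominant [IsIntegral (CohB1.ProjSpace 1 k)] {C : Scheme.{u}} [IsIntegral C]
    (pC : C ⟶ Spec (CommRingCat.of k)) [LocallyOfFiniteType pC] (hdim : topologicalKrullDim C = 1)
    (f : CohB1.ProjSpace 1 k ⟶ C) (hf : f ≫ pC = pP1 k)
    (e : f (genericPoint (CohB1.ProjSpace 1 k)) = genericPoint C) :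
    letI := Curve17.funAlg (pP1 k)
    letI := Curve17.funAlg pC
    Nonempty (C.functionField ≃ₐ[k] (CohB1.ProjSpace 1 k).functionField) := by
  letI := Curve17.funAlg (pP1 k)
  letI := Curve17.funAlg pC
  obtain ⟨σ⟩ := nonempty_algEquiv_ratFunc k
  have hbase := Curve17.genMap_baseStalk (pP1 k) pC f hf e
  let θ : C.functionField →ₐ[k] RatFunc k :=
    σ.symm.toAlgHom.comp { (Curve17.genMap f e).hom with commutes' := fun a => congr($(hbase) a) }
  have hne : θ.fieldRange ≠ ⊥ := by
    intro h
    have hsurj : Function.Surjective (algebraMap k C.functionField) := by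
      intro z
      have : θ z ∈ (⊥ : IntermediateField k (RatFunc k)) := h ▸ ⟨z, rfl⟩
      obtain ⟨a, ha⟩ := IntermediateField.mem_bot.1 this
      exact ⟨a, θ.toRingHom.injective ((θ.commutes a).trans ha)⟩
    have h0 : VarDim.sdim pC (genericPoint C) = 0 := by
      letI := VarDim.resAlg pC (genericPoint C)
      have hres : Function.Surjective (algebraMap k (C.residueField (genericPoint C))) := by
        intro z
        obtain ⟨w, rfl⟩ := C.residue_surjective (genericPoint C) z
        obtain ⟨a, rfl⟩ := hsurj w
        exact ⟨a, rfl⟩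
      have : Algebra.IsAlgebraic k (C.residueField (genericPoint C)) := ⟨fun z => by
        obtain ⟨a, rfl⟩ := hres z
        exact isAlgebraic_algebraMap a⟩
      have ht : Algebra.trdeg k (C.residueField (genericPoint C)) = 0 := trdeg_eq_zero
      simp only [VarDim.sdim, VarDim.tdeg]
      rw [ht]
      simp
    rw [VarDim.dim_eq_sdim_genericPoint pC, h0] at hdim
    exact zero_ne_one hdim
  exact ⟨((AlgEquiv.ofInjectiveField θ).trans (RatFunc.Luroth.algEquiv hne).symm).trans σ⟩

end Groth.Agent.RatCurve6
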